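import Cfsg.Agent.Lib.Co1Out.Quot
import Mathlib.GroupTheory.Sylow
import Cfsg.Prelude.Def_KGroupFacts

/-! Every automorphism of Co₁ is inner. -/

set_option autoImplicit false
set_option maxRecDepth 10000

namespace Cfsg.Agent.Co1Out

open Cfsg Cfsg.Agent.Golay Cfsg.Agent.Golay.Cert Cfsg.Agent.Leech Cfsg.Agent.LeechMod Cfsg.Agent.SporPerm
open Cfsg.Agent.PermCert (Elt get allBelow validElt)
open scoped Pointwise

theorem card_Co1 : Nat.card Spor.Co1 = 23 * 180772904632320000 := by
  have h := Subgroup.card_eq_card_quotient_mul_card_subgroup (Subgroup.center Co0)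
  rw [card_Co0, card_center] at h
  show Nat.card (Co0 ⧸ Subgroup.center Co0) = _
  omega

theorem residue23 : ∀ j < 23, j ≠ 0 → ∃ i < 11, j * 18 ^ i % 23 = 1 ∨ j * 18 ^ i % 23 = 5 := by
  decide +kernel

theorem qw_pow_qx (i : ℕ) : qw ^ i * qx * (qw ^ i)⁻¹ = qx ^ (18 ^ i) := by
  induction i with
  | zero => simp
  | succ i ih =>
    rw [pow_succ' qw i, show qw * qw ^ i * qx * (qw * qw ^ i)⁻¹ = qw * (qw ^ i * qx * (qw ^ i)⁻¹) * qw⁻¹ by group,
      ih, ← conj_pow, mul_inv_eq_iff_eq_mul.2 qw_qx, ← pow_mul, pow_succ' 18 i]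

variable (φ : MulAut Spor.Co1)

/-- Up to inner automorphisms, the element of order 23 goes to itself or to its fifth power. -/
theorem move_qx : ∃ h : Spor.Co1, ∃ k, (k = 1 ∨ k = 5) ∧ (MulAut.conj h * φ) qx = qx ^ k := by
  have : Finite Spor.Co1 := Nat.finite_of_card_ne_zero (by rw [card_Co1]; norm_num)
  have hp : Fact (Nat.Prime 23) := ⟨by norm_num⟩
  have hf : (Nat.card Spor.Co1).factorization 23 = 1 := by
    rw [card_Co1, Nat.factorization_mul (by norm_num) (by norm_num), Finsupp.add_apply,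
      Nat.Prime.factorization_self hp.out, Nat.factorization_eq_zero_of_not_dvd (by norm_num)]
  have ho : orderOf (φ qx) = 23 := (φ.orderOf_eq qx).trans order_qx
  let P : Sylow 23 Spor.Co1 := Sylow.ofCard (Subgroup.zpowers qx) (by rw [Nat.card_zpowers, order_qx, hf, pow_one])
  let Q : Sylow 23 Spor.Co1 := Sylow.ofCard (Subgroup.zpowers (φ qx)) (by rw [Nat.card_zpowers, ho, hf, pow_one])
  obtain ⟨h, hh⟩ := MulAction.exists_smul_eq Spor.Co1 Q P
  have hmem : h * φ qx * h⁻¹ ∈ Subgroup.zpowers qx := by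
    show h * φ qx * h⁻¹ ∈ (P : Subgroup Spor.Co1)
    rw [← hh, Sylow.coe_subgroup_smul]
    exact ⟨φ qx, Subgroup.mem_zpowers _, rfl⟩
  obtain ⟨j, hj⟩ := Subgroup.mem_zpowers_iff.1 hmem
  have hjn : qx ^ (j % 23).toNat = h * φ qx * h⁻¹ := by
    rw [← hj, ← zpow_natCast, Int.toNat_of_nonneg (Int.emod_nonneg _ (by norm_num)), zpow_eq_zpow_iff_modEq,
      order_qx]
    exact Int.mod_modEq _ _
  have hlt : (j % 23).toNat < 23 := by omega
  have hne : (j % 23).toNat ≠ 0 := fun e => by
    rw [e, pow_zero, eq_comm, conj_eq_one_iff] at hjn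
    exact qx_ne (φ.injective (hjn.trans (map_one φ).symm))
  obtain ⟨i, -, hi⟩ := residue23 _ hlt hne
  refine ⟨qw ^ i * h, _, hi, ?_⟩
  rw [MulAut.mul_apply, MulAut.conj_apply, mul_inv_rev,
    show qw ^ i * h * φ qx * (h⁻¹ * (qw ^ i)⁻¹) = qw ^ i * (h * φ qx * h⁻¹) * (qw ^ i)⁻¹ by group, ← hjn,
    ← conj_pow, qw_pow_qx, ← pow_mul, mul_comm, pow_eq_pow_iff_modEq, order_qx]
  exact (Nat.mod_modEq _ _).symm

theorem qx_mem_powers {k : ℕ} (hk : k = 1 ∨ k = 5) : ∃ l, (qx ^ k) ^ l = qx := by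
  rcases hk with rfl | rfl
  · exact ⟨1, by simp⟩
  · refine ⟨14, ?_⟩
    rw [← pow_mul, show 5 * 14 = 23 * 3 + 1 from rfl, pow_succ, pow_mul, qx_pow, one_pow, one_mul]

/-- Up to inner automorphisms, also the element of order 11 is fixed. -/
theorem move_qw : ∃ h : Spor.Co1, ∃ k, (k = 1 ∨ k = 5) ∧ (MulAut.conj h * φ) qx = qx ^ k ∧
    (MulAut.conj h * φ) qw = qw := by
  obtain ⟨h, k, hk, hx⟩ := move_qx φ
  set ψ := MulAut.conj h * φ
  set V := ψ qw
  have hV : V * qx ^ k = (qx ^ k) ^ 18 * V := by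
    rw [← hx, ← map_mul, ← map_pow, ← map_mul, qw_qx]
  obtain ⟨l, hl⟩ := qx_mem_powers hk
  have hV' : V * qx * V⁻¹ = qx ^ 18 := by
    conv_lhs => rw [← hl]
    rw [← conj_pow, mul_inv_eq_iff_eq_mul.2 hV, ← pow_mul, mul_comm, pow_mul, hl]
  have hc : qw⁻¹ * V * qx = qx * (qw⁻¹ * V) := by
    rw [mul_assoc, mul_inv_eq_iff_eq_mul.1 hV', ← mul_assoc, ← mul_assoc]
    congr 1
    rw [inv_mul_eq_iff_eq_mul, ← mul_assoc, qw_qx, mul_inv_cancel_right]
  obtain ⟨m, hm⟩ := cent_qx hc
  have hw9 : ∀ n, qx ^ n * qw = qw * qx ^ (9 * n) := fun n => by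
    have e : qx * qw = qw * qx ^ 9 := by
      have e2 : qw * qx ^ 9 * qw⁻¹ = qx := by
        rw [← conj_pow, mul_inv_eq_iff_eq_mul.2 qw_qx, ← pow_mul, show 18 * 9 = 23 * 7 + 1 from rfl, pow_succ,
          pow_mul, qx_pow, one_pow, one_mul]
      exact (mul_inv_eq_iff_eq_mul.1 e2).symm
    induction n with
    | zero => simp
    | succ n ih => rw [pow_succ', mul_assoc, ih, ← mul_assoc, e, mul_assoc, ← pow_add]; ring_nf
  refine ⟨qx ^ (20 * m) * h, k, hk, ?_, ?_⟩
  · rw [map_mul, mul_assoc, MulAut.mul_apply]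
    change MulAut.conj (qx ^ (20 * m)) (ψ qx) = _
    rw [hx, MulAut.conj_apply, mul_inv_eq_iff_eq_mul, ← pow_add, ← pow_add, add_comm]
  · rw [map_mul, mul_assoc, MulAut.mul_apply]
    change MulAut.conj (qx ^ (20 * m)) V = _
    rw [show V = qw * qx ^ m by rw [← hm]; group, MulAut.conj_apply, ← mul_assoc, hw9, mul_assoc qw,
      mul_assoc qw, ← pow_add, mul_eq_left, mul_inv_eq_one, pow_eq_pow_iff_modEq, order_qx]
    unfold Nat.ModEq
    omega

/-- The images of the letters. -/
noncomputable def letterVal (k e j : ℕ) : ℕ → Spor.Co1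
  | 0 => qx ^ k
  | 1 => qe * qc ^ e
  | _ => qc ^ j

theorem good_letter (k e j i : ℕ) : Good (letter k e j i) := by
  rcases i with _ | _ | i
  exacts [good_rep k good_x, good_append good_e (good_rep e good_c), good_rep j good_c]

theorem good_flatMap (k e j : ℕ) : ∀ l : List ℕ, Good (l.flatMap (letter k e j))
  | [] => by rw [List.flatMap_nil]; exact good_nil
  | i :: l => by rw [List.flatMap_cons]; exact good_append (good_letter k e j i) (good_flatMap k e j l)

theorem pr_letter (k e j i : ℕ) : pr (prodEl (letter k e j i)) = letterVal k e j i := by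
  rcases i with _ | _ | i
  · simp only [letter, letterVal, prodEl_rep, prodEl_singleton, map_pow, qx, xG, el_x]
  · simp only [letter, letterVal, prodEl_append, prodEl_rep, prodEl_singleton, map_mul, map_pow, qe, qc, eG, cG,
      el_e, gc]
  · simp only [letter, letterVal, prodEl_rep, prodEl_singleton, map_pow, qc, cG, gc]

theorem pr_word (k e j : ℕ) : ∀ l : List ℕ,
    pr (prodEl (l.flatMap (letter k e j))) = (l.map (letterVal k e j)).prod
  | [] => by rw [List.flatMap_nil, prodEl_nil, map_one]; rfl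
  | i :: l => by
    rw [List.flatMap_cons, prodEl_append, map_mul, pr_letter, pr_word k e j l, List.map_cons, List.prod_cons]

/-- The first four elements are fixed. -/
theorem fix_four {k : ℕ} (hk : k = 1 ∨ k = 5) (hx : φ qx = qx ^ k) (hw : φ qw = qw) :
    φ qx = qx ∧ φ qe = qe ∧ φ qc = qc := by
  obtain ⟨i, hi, hE⟩ := square_elim (g := φ qe) (by rw [← hw, ← map_mul, ← map_mul, qe_qw])
    (by rw [← map_mul, qe_sq, map_one]) (fun e => qe_ne (φ.injective (e.trans (map_one φ).symm)))
  obtain ⟨j, hj, hC⟩ := cube_elim (g := φ qc) (by rw [← hw, ← map_mul, ← map_mul, qc_qw])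
    (by rw [← map_mul, ← map_mul, ← pow_two, ← pow_succ, qc_pow, map_one])
    (fun e => qc_ne (φ.injective (e.trans (map_one φ).symm)))
  -- the sign change in the form of the checks
  have hswap : ∀ n, qe * qc ^ n = qc⁻¹ ^ n * qe := fun n => by
    induction n with
    | zero => simp
    | succ n ih => rw [pow_succ, ← mul_assoc, ih, mul_assoc, qe_qc, ← mul_assoc, ← pow_succ]
  have he : φ qe = qe * qc ^ ((2 * i) % 3) := by
    rw [hE, hswap, inv_pow]
    congr 1
    rw [eq_inv_iff_mul_eq_one, ← pow_add, pow_eq_one_iff_modEq]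
    have : orderOf qc = 3 := orderOf_eq_prime (hp := ⟨Nat.prime_three⟩) qc_pow qc_ne
    rw [this]
    unfold Nat.ModEq
    omega
  suffices h : k = 1 ∧ (2 * i) % 3 = 0 ∧ j = 1 by
    obtain ⟨rfl, h2, rfl⟩ := h
    exact ⟨by rw [hx, pow_one], by rw [he, h2, pow_zero, mul_one], by rw [hC, pow_one]⟩
  by_contra hne
  have hcov := witnesses_cover
  simp only [List.all_eq_true, Bool.or_eq_true, Bool.and_eq_true, Nat.beq_eq, List.any_eq_true] at hcov
  rcases hcov ((2 * i) % 3) (List.mem_range.2 (Nat.mod_lt _ (by norm_num))) k (by simp [hk]) j (by simp [hj])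
    with ⟨⟨r1, r2⟩, r3⟩ | ⟨v, hv, ⟨rfl, hv2⟩, rfl⟩
  · exact hne ⟨r1, r2, r3⟩
  have hok := List.all_eq_true.1 witnesses_ok v hv
  simp only [witnessOK, Bool.and_eq_true] at hok
  have hsrc := pr_same (good_rep _ (good_flatMap 1 0 1 _)) hok.1
  have htgt := pr_ne (good_rep _ (good_flatMap _ _ _ _)) good_nil hok.2
  rw [prodEl_rep, map_pow, pr_word] at hsrc
  rw [prodEl_rep, map_pow, pr_word, prodEl_nil, map_one] at htgt
  refine htgt ?_
  have hl : ∀ r, φ (letterVal 1 0 1 r) = letterVal v.1 v.2.1 v.2.2.1 r := fun r => by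
    rcases r with _ | _ | r
    · simp only [letterVal, pow_one, hx]
    · simp only [letterVal, pow_zero, mul_one, he, hv2]
    · simp only [letterVal, pow_one, hC]
  rw [← map_one φ, ← hsrc, map_pow, map_list_prod, List.map_map]
  congr 2
  exact List.map_congr_left fun r _ => (hl r).symm

/-- The elements of the automorphism group of the lattice whose image is fixed. -/
noncomputable def fixedSub : Subgroup Co0 := (φ.toMonoidHom.comp pr).eqLocus pr

theorem mem_fixedSub {g : Co0} : g ∈ fixedSub φ ↔ φ (pr g) = pr g := Iff.rfl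

/-- The sign changes are fixed. -/
theorem diag_fixed (hx : φ qx = qx) (he : φ qe = qe) (c : golayCode) : Leech.diag c ∈ fixedSub φ := by
  have h := d_conj
  simp only [Bool.and_eq_true, Nat.beq_eq] at h
  obtain ⟨⟨h0, hstep⟩, hlen⟩ := h
  have hv : validElt 5 24 xElt = true := by
    have := perm_mats.1; simp only [permMatOK, Bool.and_eq_true] at this; exact this.1.1
  have hgx : gx ∈ fixedSub φ := hx
  have hall : ∀ j, j < 23 → ofMask (dConj.getD j 0) ∈ diagPart (fixedSub φ) := by
    intro j hj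
    induction j with
    | zero => rw [h0]; exact mem_diagPart.2 (show ge ∈ fixedSub φ from he)
    | succ j ih =>
      have := PermCert.allBelow_spec _ _ hstep j (by omega)
      rw [Nat.beq_eq] at this
      rw [← this]
      obtain ⟨hc, hcK⟩ := ih (by omega)
      have hconj := mul_mem (mul_mem hgx hcK) (inv_mem hgx)
      rw [gx, perm_diag] at hconj
      rw [show ofMask (imgMask xElt (dConj.getD j 0)) =
        fun i => ofMask (dConj.getD j 0) ((σx : Equiv.Perm GolayPt).symm i) from funext (ofMask_imgMask hv _)]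
      exact mem_diagPart.2 hconj
  have hone : ofMask 16777215 ∈ diagPart (fixedSub φ) := by
    rw [show ofMask 16777215 = (1 : GolayPt → ZMod 2) by funext p; revert p; decide +kernel]
    exact ⟨one_mem_code, show φ (pr negCo0) = pr negCo0 by rw [pr_neg, map_one]⟩
  obtain ⟨m, hm, hmc⟩ := mem_golayCode.1 c.2
  refine mem_diagPart.1 (hmc ▸ spanList_mem_submodule (M := diagPart (fixedSub φ)) _ (fun b hb => ?_) m hm)
  refine spanList_mem_submodule (M := diagPart (fixedSub φ)) _ (fun d hd => ?_) b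
    (memB_spec (List.all_eq_true.1 d_span b hb))
  rcases List.mem_cons.1 hd with rfl | hd
  · exact hone
  · obtain ⟨n, hn, rfl⟩ := List.getElem_of_mem hd
    rw [List.getElem_take, ← List.getD_eq_getElem _ 0]
    exact hall n (by rw [List.length_take] at hn; omega)

/-- The normalising element is fixed. -/
theorem qm_fixed (hx : φ qx = qx) (he : φ qe = qe) (hw : φ qw = qw) : φ qm = qm := by
  have hd := diag_fixed φ hx he
  set D := qm⁻¹ * φ qm with hD
  have hfix : ∀ y : Spor.Co1, φ y = y → φ (qm * y * qm⁻¹) = qm * y * qm⁻¹ → D * y = y * D := by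
    intro y hy hc
    rw [map_mul, map_mul, map_inv, hy, mul_inv_eq_iff_eq_mul] at hc
    rw [hD, mul_assoc, hc]
    group
  have hDw : D * qw = qw * D := by
    refine hfix _ hw ?_
    obtain ⟨j, hj⟩ := gm_gw
    rw [show qm * qw * qm⁻¹ = qw ^ j by
      rw [mul_inv_eq_iff_eq_mul]; simp only [qm, qw, ← map_pow, ← map_mul, hj], map_pow, hw]
  obtain ⟨i, hi, e, hel, k, hk, hDe⟩ := cent_qw hDw
  have hcase := cases_spec cent_cases hi hel hk
  simp only [Bool.or_eq_true, Bool.and_eq_true, Nat.beq_eq, List.any_eq_true] at hcase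
  have hdiag : ∀ c, φ (pr (Leech.diag c)) = pr (Leech.diag c) := hd
  rcases hcase with ⟨rfl, rfl⟩ | ⟨y, hy, hdiff⟩
  swap
  · exfalso
    have hgy : ∀ c, D * pr (Leech.diag c) = pr (Leech.diag c) * D := fun c => by
      refine hfix _ (hdiag c) ?_
      rw [show qm * pr (Leech.diag c) * qm⁻¹ = pr (gm * Leech.diag c * gm⁻¹) by simp only [qm, map_mul, map_inv],
        gm, perm_diag]
      exact hdiag _
    have hy' : Good y ∧ ∃ c, prodEl y = Leech.diag c := by
      simp only [List.mem_cons, List.not_mem_nil, or_false] at hy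
      rcases hy with rfl | rfl
      · exact ⟨good_e, dWord, by simp only [prodEl_singleton, eG, el_e, ge]⟩
      · refine ⟨good_append (A := [xG, eG]) (good_append good_x good_e) (good_rep 22 good_x),
          ⟨fun i => (dWord : GolayPt → ZMod 2) ((σx : Equiv.Perm GolayPt).symm i), code_perm σx.2 dWord.2⟩, ?_⟩
        have e22 : gx ^ 22 = gx⁻¹ := eq_inv_of_mul_eq_one_left (by rw [← pow_succ]; exact gx_pow)
        rw [prodEl_append, prodEl_rep, show [xG, eG] = [xG] ++ [eG] from rfl, prodEl_append]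
        simp only [prodEl_singleton, xG, eG, el_x, el_e, e22]
        exact perm_diag σx dWord
    obtain ⟨hgood, c, hc⟩ := hy'
    refine pr_ne (good_append (good_centWord i e k) hgood) (good_append hgood (good_centWord i e k)) hdiff ?_
    rw [prodEl_append, prodEl_append, map_mul, map_mul, ← centEl_eq, ← hDe, hc, hgy]
  rcases (show e = 0 ∨ e = 1 by omega) with rfl | rfl
  · rw [centEl, pow_zero, pow_zero, pow_zero, mul_one, mul_one, hD, inv_mul_eq_one] at hDe
    exact hDe.symm
  exfalso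
  rw [centEl, pow_zero, pow_zero, pow_one, mul_one, one_mul, hD, inv_mul_eq_iff_eq_mul] at hDe
  have gxm : Good [xG, mG] := good_append (A := [xG]) good_x good_m
  have gxme : Good [xG, mG, eG] := good_append (A := [xG]) good_x (good_append (A := [mG]) good_m good_e)
  have h7 := pr_same (good_rep 7 gxm) m_witness.1
  have h7' := pr_ne (good_rep 7 gxme) good_nil m_witness.2
  rw [prodEl_rep] at h7 h7'
  simp only [prodEl, List.map_cons, List.map_nil, List.prod_cons, List.prod_nil, mul_one, xG, mG, eG,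
    el_x, el_m, el_e, map_pow, map_mul, map_one] at h7 h7'
  refine h7' ?_
  change (qx * (qm * qe)) ^ 7 = 1
  rw [← hDe]
  conv_lhs => rw [← hx]
  rw [← map_mul, ← map_pow]
  exact (congrArg φ h7).trans (map_one φ)

/-- An automorphism fixing the five elements is trivial. -/
theorem eq_one_of_fixed (hx : φ qx = qx) (he : φ qe = qe) (hw : φ qw = qw) (hm : φ qm = qm)
    (hc : φ qc = qc) : φ = 1 := by
  have hperm : ∀ σ : M24, permHom σ ∈ fixedSub φ := by
    have hle : M24 ≤ ((fixedSub φ).comap permHom).map M24.subtype :=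
      M24_le ⟨σx, hx, rfl⟩ ⟨e11, hw, rfl⟩ ⟨σm, hm, rfl⟩
    intro σ
    obtain ⟨τ, hτ, e⟩ := hle σ.2
    rwa [← Subtype.ext (p := fun p => p ∈ M24) e]
  have hcross : crossStab ≤ fixedSub φ := fun g hg => by
    obtain ⟨a, rfl⟩ := fixesStd_iff.1 (mem_crossStab.1 hg)
    rw [show mono a = Leech.diag a.2 * permHom a.1 by
      show mono a = mono (1, a.2) * mono (a.1, 0)
      rw [mono_mul]
      congr 1
      refine Prod.ext (by simp [pairMul]) (Subtype.ext (funext fun i => ?_))
      simp [pairMul]]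
    exact mul_mem (diag_fixed φ hx he _) (hperm _)
  have htop : fixedSub φ = ⊤ := by
    refine isCoatom_crossStab.2 _ (lt_of_le_of_ne hcross fun e => gc_not_mem ?_)
    rw [e]
    exact hc
  refine MulEquiv.ext fun y => ?_
  obtain ⟨g, rfl⟩ := pr_surj y
  exact (mem_fixedSub φ).1 (htop ▸ Subgroup.mem_top g)

/-- Every automorphism is inner. -/
theorem inn_eq_top : Inn Spor.Co1 = ⊤ := by
  refine eq_top_iff.2 fun φ _ => ?_
  obtain ⟨h, k, hk, hx, hw⟩ := move_qw φ
  set ψ := MulAut.conj h * φ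
  obtain ⟨hx', he, hc⟩ := fix_four ψ hk hx hw
  have h1 : ψ = 1 := eq_one_of_fixed ψ hx' he hw (qm_fixed ψ hx' he hw) hc
  exact ⟨h⁻¹, by rw [map_inv]; exact inv_eq_of_mul_eq_one_right h1⟩

theorem card_out : Nat.card (Out Spor.Co1) = 1 := by
  show Nat.card (MulAut Spor.Co1 ⧸ Inn Spor.Co1) = 1
  rw [← Subgroup.index_eq_card, inn_eq_top, Subgroup.index_top]

end Cfsg.Agent.Co1Out
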