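import Cfsg.Agent.Lib.LeechOrbit.Check
import Cfsg.Agent.Lib.Leech.Conway
import Cfsg.Agent.Lib.Co1Out.Data

/-!
Products of matrix elements of the automorphism group of the Leech lattice, evaluated on the axes.
-/

set_option autoImplicit false
set_option maxRecDepth 10000

namespace Cfsg.Agent.Co1Out

open Cfsg Cfsg.Agent.Golay Cfsg.Agent.Leech Cfsg.Agent.LeechMod Cfsg.Agent.SporPerm
open Cfsg.Agent.LeechOrbit (dec length_dec imgOK img_eq colsOK smallOK)

/-- Force a natural number. -/
def forceN (n : ℕ) (k : ℕ → Bool) : Bool :=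
  match n with
  | 0 => k 0
  | m + 1 => k (m + 1)

theorem forceN_eq (n : ℕ) (k : ℕ → Bool) : forceN n k = k n := by cases n <;> rfl

/-- A matrix with its packed columns. -/
abbrev Gen : Type := List (List ℤ) × (List ℕ × ℕ)

/-- The image under one matrix. -/
def app (M : List (List ℤ)) (v : List ℤ) : List ℤ := M.map fun r => rowDot r v / 8

/-- The image under a product of matrices. -/
def run : List Gen → List ℤ → List ℤ
  | [], v => v
  | g :: Ms, v => app g.1 (run Ms v)

/-- The digits of a product, guessed from the packed numbers. -/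
def guessDigits : ℕ → ℕ → ℕ → ℕ → ℕ
  | 0, _, _, _ => 0
  | n + 1, T, R, S => Nat.add
      (Nat.mod (Nat.sub (Nat.sub (Nat.div (Nat.add (Nat.mod T 65536) 1600) 8) S) (Nat.mod R 65536)) 16)
      (Nat.mul 16 (guessDigits n (Nat.div T 65536) (Nat.div R 65536) S))

/-- The code of the image, guessed from the packed numbers. -/
def guess (P : List ℕ × ℕ) (c : ℕ) : ℕ :=
  guessDigits 24 (LeechOrbit.dotN P.1 c) (Nat.div P.2 8) (LeechOrbit.digSum 24 c)

/-- One step: the guess is verified and handed on. -/
def stepP (P : List ℕ × ℕ) (c : ℕ) (k : ℕ → Bool) : Bool :=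
  forceN (guess P c) fun q => imgOK P c q && k q

/-- The image of a coded vector under a product, verified at every step. -/
def runP : List Gen → ℕ → (ℕ → Bool) → Bool
  | [], c, k => k c
  | g :: Ms, c, k => runP Ms c fun r => stepP g.2 r k

/-- A generator passing all checks. -/
def GenOK (g : Gen) : Prop := matOK g.1 = true ∧ smallOK g.1 = true ∧ colsOK g.1 g.2 = true

theorem runP_spec : ∀ {Ms : List Gen}, (∀ g ∈ Ms, GenOK g) → ∀ {c : ℕ} {k : ℕ → Bool},
    runP Ms c k = true → ∃ q, dec 24 q = run Ms (dec 24 c) ∧ k q = true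
  | [], _, c, _, h => ⟨c, rfl, h⟩
  | g :: Ms, hM, c, k, h => by
    obtain ⟨r, hr, hs⟩ := runP_spec (fun f hf => hM f (List.mem_cons_of_mem _ hf)) h
    simp only [stepP, forceN_eq, Bool.and_eq_true] at hs
    obtain ⟨-, h2, h3⟩ := hM g List.mem_cons_self
    refine ⟨_, ?_, hs.2⟩
    rw [run, app, ← hr, img_eq h2 h3 hs.1]

/-- The coordinates of an axis vector. -/
def axisL (j : ℕ) : List ℤ := (List.range 24).map fun i => if Nat.beq i j then 8 else 0

theorem length_axisL (j : ℕ) : (axisL j).length = 24 := by simp [axisL]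

theorem toVec_axisL (p : GolayPt) : toVec (axisL (idx p)) = (axis p : GolayPt → ℤ) := by
  funext q
  rw [toVec, axisL, getD_map_range _ (idx_lt q), coe_axis, Pi.single_apply]
  by_cases h : q = p
  · subst h; simp [Nat.beq_eq]
  · rw [if_neg h, if_neg]
    rw [Nat.beq_eq]
    exact fun e => h (idx_injective e)

/-- The element of a matrix. -/
noncomputable def el (M : List (List ℤ)) : Co0 :=
  if h : matOK M = true then Classical.choose (exists_of_matOK h) else 1

theorem el_spec {M : List (List ℤ)} (h : matOK M = true) (v : leechLattice) :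
    ((el M • v : leechLattice) : GolayPt → ℤ) = mapMat (toMat M) v := by
  rw [el, dif_pos h]
  exact (Classical.choose_spec (exists_of_matOK h)).1 v

/-- The product of the elements of matrices. -/
noncomputable def prodEl (Ms : List Gen) : Co0 := (Ms.map fun g => el g.1).prod

theorem shapeOK_of_matOK {M : List (List ℤ)} (h : matOK M = true) : shapeOK M = true := by
  simp only [matOK, Bool.and_eq_true] at h
  exact h.1.1.1

theorem length_run : ∀ {Ms : List Gen}, (∀ g ∈ Ms, GenOK g) → ∀ {v : List ℤ},
    v.length = 24 → (run Ms v).length = 24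
  | [], _, _, hv => hv
  | g :: Ms, h, _, _ => by
    have := shapeOK_of_matOK (h g List.mem_cons_self).1
    simp only [shapeOK, Bool.and_eq_true, Nat.beq_eq] at this
    simpa [run, app] using this.1

theorem run_spec : ∀ {Ms : List Gen}, (∀ g ∈ Ms, GenOK g) → ∀ {l : List ℤ},
    l.length = 24 → ∀ {v : leechLattice}, toVec l = (v : GolayPt → ℤ) →
    toVec (run Ms l) = ((prodEl Ms • v : leechLattice) : GolayPt → ℤ)
  | [], _, _, _, v, hv => by simpa [run, prodEl] using hv
  | g :: Ms, h, l, hl, v, hv => by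
    have hMs : ∀ f ∈ Ms, GenOK f := fun f hf => h f (List.mem_cons_of_mem _ hf)
    have hM := (h g List.mem_cons_self).1
    rw [prodEl, List.map_cons, List.prod_cons, mul_smul, el_spec hM, ← prodEl, ← run_spec hMs hl hv,
      mapMat_toVec (shapeOK_of_matOK hM) (length_run hMs hl)]
    rfl

theorem toVec_map_mul {l : List ℤ} (s : ℤ) :
    toVec (l.map fun x => s * x) = fun p => s * toVec l p := by
  funext p
  simp only [toVec]
  rw [show (0 : ℤ) = s * 0 from (mul_zero s).symm, List.getD_map]
  simp

/-- The code of `4` at the extra point and at `j` (minus at `0` for `j = 23`). -/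
def testCode (j : ℕ) : ℕ :=
  mkCode (fun i => if Nat.beq i 23 then 12 else if Nat.beq j 23 then (if Nat.beq i 0 then 4 else 8)
    else if Nat.beq i j then 12 else 8) 24
where
  /-- Horner form. -/
  mkCode (f : ℕ → ℕ) : ℕ → ℕ
    | 0 => 0
    | n + 1 => mkCode (fun i => f (i + 1)) n * 16 + f 0

/-- The test vectors are lattice vectors and span the axes. -/
theorem test_facts : PermCert.allBelow (fun j => LeechMod.inLB (toVec (dec 24 (testCode j))) &&
    eqV (dec 24 (testCode j)) ((List.range 24).map fun i => if Nat.beq i 23 then 4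
      else if Nat.beq j 23 then (if Nat.beq i 0 then -4 else 0) else if Nat.beq i j then 4 else 0)) 24 = true := by
  decide +kernel

/-- The test vector. -/
noncomputable def testVec (j : ℕ) : leechLattice :=
  if h : j < 24 then ⟨toVec (dec 24 (testCode j)), mem_of_inLB (by
    have := PermCert.allBelow_spec _ _ test_facts j h
    rw [Bool.and_eq_true] at this
    exact this.1)⟩ else 0

theorem coe_testVec {j : ℕ} (h : j < 24) :
    (testVec j : GolayPt → ℤ) = toVec (dec 24 (testCode j)) := by rw [testVec, dif_pos h]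

theorem testVec_apply {j : ℕ} (h : j < 24) (p : GolayPt) :
    (testVec j : GolayPt → ℤ) p = if Nat.beq (idx p) 23 then 4
      else if Nat.beq j 23 then (if Nat.beq (idx p) 0 then -4 else 0) else if Nat.beq (idx p) j then 4 else 0 := by
  have := PermCert.allBelow_spec _ _ test_facts j h
  rw [Bool.and_eq_true, eqV_iff] at this
  rw [coe_testVec h, this.2, toVec, getD_map_range _ (idx_lt p)]

theorem axis_none_eq : axis none = testVec 0 + testVec 23 := by
  refine Subtype.ext (funext fun p => ?_)
  rw [AddSubgroup.coe_add, Pi.add_apply, testVec_apply (by norm_num), testVec_apply (by norm_num), coe_axis]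
  revert p; decide +kernel

theorem axis_eq {p : GolayPt} (hp : p ≠ none) : axis p = testVec (idx p) + testVec (idx p) - axis none := by
  refine Subtype.ext (funext fun q => ?_)
  rw [AddSubgroup.coe_sub, AddSubgroup.coe_add, Pi.sub_apply, Pi.add_apply, testVec_apply (idx_lt p),
    coe_axis, coe_axis]
  revert hp; revert q; revert p; decide +kernel

variable {Ls Rs : List Gen}

/-- The two products agree up to the sign `s` on the test vectors. -/
def sameOK (Ls Rs : List Gen) (s : ℤ) : Bool :=
  PermCert.allBelow (fun j => runP Ls (testCode j) fun a => runP Rs (testCode j) fun b =>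
    eqV (dec 24 a) ((dec 24 b).map fun x => s * x)) 24

/-- The two products differ at some test vector, with the sign `s`. -/
def diffSign (Ls Rs : List Gen) (s : ℤ) : Bool :=
  (List.range 24).any fun j => runP Ls (testCode j) fun a => runP Rs (testCode j) fun b =>
    !eqV (dec 24 a) ((dec 24 b).map fun x => s * x)

/-- The two products differ, also up to sign. -/
def diffOK (Ls Rs : List Gen) : Bool := diffSign Ls Rs 1 && diffSign Ls Rs (-1)

theorem sameOK_spec (hL : ∀ g ∈ Ls, GenOK g) (hR : ∀ g ∈ Rs, GenOK g) {s : ℤ} (h : sameOK Ls Rs s = true)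
    (p : GolayPt) : prodEl Ls • axis p = s • (prodEl Rs • axis p) := by
  have key : ∀ j, j < 24 → prodEl Ls • testVec j = s • (prodEl Rs • testVec j) := fun j hj => by
    obtain ⟨a, ha, h1⟩ := runP_spec hL (PermCert.allBelow_spec _ _ h j hj)
    obtain ⟨b, hb, h2⟩ := runP_spec hR h1
    rw [eqV_iff] at h2
    refine Subtype.ext ?_
    rw [← run_spec hL (length_dec _ _) (coe_testVec hj).symm, ← ha, h2, toVec_map_mul, hb,
      run_spec hR (length_dec _ _) (coe_testVec hj).symm]
    rfl
  have hn : prodEl Ls • axis none = s • (prodEl Rs • axis none) := by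
    rw [axis_none_eq, co0_add, co0_add, key 0 (by norm_num), key 23 (by norm_num), smul_add]
  rcases eq_or_ne p none with rfl | hp
  · exact hn
  · rw [axis_eq hp, co0_sub, co0_sub, co0_add, co0_add, key _ (idx_lt p), hn, smul_sub, smul_add]

theorem eq_of_sameOK (hL : ∀ g ∈ Ls, GenOK g) (hR : ∀ g ∈ Rs, GenOK g)
    (h : sameOK Ls Rs 1 = true) : prodEl Ls = prodEl Rs :=
  co0_ext fun p => by rw [sameOK_spec hL hR h p, one_smul]

theorem eq_neg_of_sameOK (hL : ∀ g ∈ Ls, GenOK g) (hR : ∀ g ∈ Rs, GenOK g)
    (h : sameOK Ls Rs (-1) = true) : prodEl Ls = negCo0 * prodEl Rs :=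
  co0_ext fun p => by rw [sameOK_spec hL hR h p, mul_smul, negCo0_smul, neg_one_zsmul]

theorem ne_of_diffSign (hL : ∀ g ∈ Ls, GenOK g) (hR : ∀ g ∈ Rs, GenOK g) {s : ℤ}
    (h : diffSign Ls Rs s = true) : ∃ j, prodEl Ls • testVec j ≠ s • (prodEl Rs • testVec j) := by
  obtain ⟨j, hj, hjr⟩ := List.any_eq_true.1 h
  rw [List.mem_range] at hj
  obtain ⟨a, ha, h1⟩ := runP_spec hL hjr
  obtain ⟨b, hb, h2⟩ := runP_spec hR h1
  refine ⟨j, fun e => ?_⟩
  rw [Bool.not_eq_true', Bool.eq_false_iff] at h2
  refine h2 (eqV_iff.2 (toVec_inj (length_dec _ _) (by simp [length_dec]) ?_))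
  rw [ha, toVec_map_mul, hb, run_spec hL (length_dec _ _) (coe_testVec hj).symm,
    run_spec hR (length_dec _ _) (coe_testVec hj).symm, e]
  rfl

theorem ne_of_diffOK (hL : ∀ g ∈ Ls, GenOK g) (hR : ∀ g ∈ Rs, GenOK g) (h : diffOK Ls Rs = true) :
    prodEl Ls ≠ prodEl Rs ∧ prodEl Ls ≠ negCo0 * prodEl Rs := by
  rw [diffOK, Bool.and_eq_true] at h
  obtain ⟨i, hi⟩ := ne_of_diffSign hL hR h.1
  obtain ⟨j, hj⟩ := ne_of_diffSign hL hR h.2
  exact ⟨fun e => hi (by rw [e, one_smul]), fun e => hj (by rw [e, mul_smul, negCo0_smul, neg_one_zsmul])⟩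

/-- A lattice vector passes the membership test. -/
theorem inLB_of_mem {x : GolayPt → ℤ} (hx : x ∈ leechLattice) : LeechMod.inLB x = true := by
  obtain ⟨m, hm01, hm⟩ := exists_parity hx
  have hme : x none % 2 = m := by
    have := hm.1 none
    rcases hm01 with rfl | rfl <;> omega
  subst hme
  simp only [LeechMod.inLB, Bool.and_eq_true, List.all_eq_true, beq_iff_eq]
  refine ⟨⟨fun p _ => Int.emod_eq_zero_of_dvd (hm.1 p), Int.emod_eq_zero_of_dvd hm.2.1⟩, ?_⟩
  refine (ofMask_mem_iff (mkMask_lt _ _)).1 ?_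
  convert hm.2.2 using 1
  funext p
  have hp : pt (Fin.ofNat 24 (idx p)) = p := by
    rw [show Fin.ofNat 24 (idx p) = ⟨idx p, idx_lt p⟩ from Fin.ext (Nat.mod_eq_of_lt (idx_lt p))]
    exact pt_idx p
  simp only [hword, ofMask]
  rw [testBit_mkMask, decide_eq_true (idx_lt p), Bool.true_and, hp]
  generalize (x p - x none % 2) / 2 = a
  rcases Int.emod_two_eq_zero_or_one a with ha | ha
  · simp [ha, (ZMod.intCast_zmod_eq_zero_iff_dvd a 2).2 (Int.dvd_of_emod_eq_zero ha)]
  · simp only [ha]
    obtain ⟨b, rfl⟩ : ∃ b, a = 1 + 2 * b := ⟨a / 2, by omega⟩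
    simp [show (2 : ZMod 2) = 0 from rfl]

end Cfsg.Agent.Co1Out
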