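import Cfsg.Agent.Lib.Co1Out.Checks

/-! The named elements. -/

set_option autoImplicit false

namespace Cfsg.Agent.Co1Out

open Cfsg Cfsg.Agent.Golay Cfsg.Agent.Leech Cfsg.Agent.LeechMod Cfsg.Agent.SporPerm
open Cfsg.Agent.PermCert (Elt get allBelow validElt)

theorem xG_ok : GenOK xG := x_ok
theorem wG_ok : GenOK wG := w_ok
theorem mG_ok : GenOK mG := m_ok
theorem eG_ok : GenOK eG := eps_ok
theorem cG_ok : GenOK cG := c_ok
theorem c2G_ok : GenOK c2G := c2_ok

theorem perm_el {M : List (List ℤ)} (hM : matOK M = true) {e : Elt} (h : permMatOK M e = true) :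
    ∃ hσ : permOf e ∈ M24, el M = permHom ⟨permOf e, hσ⟩ := by
  simp only [permMatOK, Bool.and_eq_true] at h
  obtain ⟨⟨hv, ha⟩, hk⟩ := h
  refine ⟨permOf_mem_M24 hv ha, co0_ext fun p => ?_⟩
  have hp := PermCert.allBelow_spec _ _ hk (idx p) (idx_lt p)
  rw [eqV_iff, ← idx_permOf hv] at hp
  have e2 : (permHom (⟨permOf e, permOf_mem_M24 hv ha⟩ : M24)) • axis p = axis (permOf e p) :=
    (mono_axis (⟨permOf e, permOf_mem_M24 hv ha⟩, 0) p).trans (by simp [sgn])
  refine Eq.trans ?_ e2.symm
  refine Subtype.ext ?_
  rw [el_spec hM, ← toVec_axisL, mapMat_toVec (shapeOK_of_matOK hM) (length_axisL _), ← toVec_axisL]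
  exact congrArg toVec hp

/-- The permutation of order 23. -/
noncomputable def σx : M24 := ⟨permOf xElt, (perm_el x_ok.1 perm_mats.1).1⟩

/-- The normalising permutation. -/
noncomputable def σm : M24 := ⟨permOf mElt, (perm_el m_ok.1 perm_mats.2.2).1⟩

/-- The element of order 23. -/
noncomputable def gx : Co0 := permHom σx
/-- The element of order 11. -/
noncomputable def gw : Co0 := permHom e11
/-- An element of the normaliser of `gw`. -/
noncomputable def gm : Co0 := permHom σm
/-- The word of the invariant dodecad. -/
noncomputable def dWord : golayCode :=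
  ⟨ofMask dMask, ofMask_mem_golayCode (by
    have := eps_mat; rw [Bool.and_eq_true] at this; exact this.2)⟩
/-- The sign change. -/
noncomputable def ge : Co0 := diag dWord
/-- The element of order three. -/
noncomputable def gc : Co0 := el cMat

theorem el_x : el xMat = gx := (perm_el x_ok.1 perm_mats.1).2
theorem el_w : el wMat = gw := (perm_el w_ok.1 perm_mats.2.1).2
theorem el_m : el mMat = gm := (perm_el m_ok.1 perm_mats.2.2).2

theorem el_e : el epsMat = ge := by
  have hM : matOK epsMat = true := eps_ok.1
  have h := eps_mat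
  rw [Bool.and_eq_true] at h
  refine co0_ext fun p => ?_
  have hp := PermCert.allBelow_spec _ _ h.1 (idx p) (idx_lt p)
  rw [eqV_iff] at hp
  rw [show ge = mono (1, dWord) from rfl, mono_axis]
  refine Subtype.ext ?_
  rw [el_spec hM, ← toVec_axisL, mapMat_toVec (shapeOK_of_matOK hM) (length_axisL _)]
  show toVec (app epsMat (axisL (idx p))) = _
  rw [hp, toVec_map_mul, toVec_axisL]
  funext q
  simp only [OneMemClass.coe_one, Equiv.Perm.one_apply, AddSubgroup.coe_zsmul, Pi.smul_apply,
    smul_eq_mul, sgn, dWord, ofMask]
  by_cases hb : dMask.testBit (idx p) = true <;> simp [hb]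

theorem prodEl_append (A B : List Gen) : prodEl (A ++ B) = prodEl A * prodEl B := by
  simp [prodEl]

theorem prodEl_rep (n : ℕ) (l : List Gen) : prodEl (rep n l) = prodEl l ^ n := by
  induction n with
  | zero => rfl
  | succ n ih =>
    rw [show rep (n + 1) l = l ++ rep n l from by simp [rep, List.replicate_succ], prodEl_append, ih,
      pow_succ']

theorem prodEl_singleton (g : Gen) : prodEl [g] = el g.1 := by simp [prodEl]

theorem prodEl_nil : prodEl [] = 1 := rfl

/-- The lists built from the six matrices. -/
def Good (Ms : List Gen) : Prop := ∀ g ∈ Ms, GenOK g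

theorem good_nil : Good [] := fun _ h => by simp at h
theorem good_one {g : Gen} (h : GenOK g) : Good [g] :=
  fun f hf => List.mem_singleton.1 hf ▸ h
theorem good_append {A B : List Gen} (hA : Good A) (hB : Good B) : Good (A ++ B) :=
  fun M hM => (List.mem_append.1 hM).elim (hA M) (hB M)
theorem good_rep {A : List Gen} (n : ℕ) (hA : Good A) : Good (rep n A) := fun M hM => by
  obtain ⟨l, hl, hMl⟩ := List.mem_flatten.1 hM
  exact hA M ((List.eq_of_mem_replicate hl) ▸ hMl)

theorem good_x : Good [xG] := good_one xG_ok
theorem good_w : Good [wG] := good_one wG_ok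
theorem good_m : Good [mG] := good_one mG_ok
theorem good_e : Good [eG] := good_one eG_ok
theorem good_c : Good [cG] := good_one cG_ok
theorem good_c2 : Good [c2G] := good_one c2G_ok

theorem gx_pow : gx ^ 23 = 1 := by
  have := eq_of_sameOK (good_rep 23 good_x) good_nil x_facts.2.1
  simpa only [prodEl_rep, prodEl_singleton, xG, wG, mG, eG, cG, c2G, el_x, prodEl_nil] using this

theorem gw_pow : gw ^ 11 = 1 := by
  have := eq_of_sameOK (good_rep 11 good_w) good_nil w_facts.1
  simpa only [prodEl_rep, prodEl_singleton, xG, wG, mG, eG, cG, c2G, el_w, prodEl_nil] using this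

theorem gw_gx : gw * gx = gx ^ 18 * gw := by
  have := eq_of_sameOK (good_append good_w good_x) (good_append (good_rep 18 good_x) good_w) w_facts.2.2
  simpa only [prodEl_append, prodEl_rep, prodEl_singleton, xG, wG, mG, eG, cG, c2G, el_w, el_x] using this

theorem el_c2 : el c2Mat = gc⁻¹ := by
  have := eq_of_sameOK (good_append good_c good_c2) good_nil c_facts.2.2.1
  simp only [prodEl_append, prodEl_singleton, prodEl_nil, cG, c2G] at this
  exact eq_inv_of_mul_eq_one_right this

theorem gc_pow : gc ^ 3 = 1 := by
  have := eq_of_sameOK (good_append good_c (good_append good_c good_c)) good_nil c_facts.1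
  simp only [prodEl_append, prodEl_singleton, prodEl_nil, cG] at this
  rw [pow_succ', pow_two]; exact this

theorem gc_gw : gc * gw = gw * gc := by
  have := eq_of_sameOK (good_append good_c good_w) (good_append good_w good_c) c_facts.2.1
  simpa only [prodEl_append, prodEl_singleton, xG, wG, mG, eG, cG, c2G, el_w, gc] using this

theorem ge_sq : ge * ge = 1 := by
  have := eq_of_sameOK (good_append good_e good_e) good_nil eps_facts.1
  simpa only [prodEl_append, prodEl_singleton, xG, wG, mG, eG, cG, c2G, el_e, prodEl_nil] using this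

theorem ge_gw : ge * gw = gw * ge := by
  have := eq_of_sameOK (good_append good_e good_w) (good_append good_w good_e) eps_facts.2.1
  simpa only [prodEl_append, prodEl_singleton, xG, wG, mG, eG, cG, c2G, el_e, el_w] using this

theorem ge_gc : ge * gc = gc⁻¹ * ge := by
  have := eq_of_sameOK (good_append good_e good_c) (good_append good_c2 good_e) eps_facts.2.2.1
  simpa only [prodEl_append, prodEl_singleton, xG, wG, mG, eG, cG, c2G, el_e, el_c2, gc] using this

theorem gm_gw : ∃ j : ℕ, gm * gw = gw ^ j * gm := by
  obtain ⟨j, -, hj⟩ := List.any_eq_true.1 m_facts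
  refine ⟨j, ?_⟩
  have := eq_of_sameOK (good_append good_m good_w) (good_append (good_rep j good_w) good_m) hj
  simpa only [prodEl_append, prodEl_rep, prodEl_singleton, xG, wG, mG, eG, cG, c2G, el_w, el_m] using this

/-- An element of the listed centraliser. -/
theorem centWord_eq (i e k : ℕ) : prodEl (centWord i e k) = gc ^ i * ge ^ e * gw ^ k := by
  simp only [centWord, prodEl_append, prodEl_rep, prodEl_singleton, xG, wG, mG, eG, cG, c2G, el_e, el_w, gc]

theorem good_centWord (i e k : ℕ) : Good (centWord i e k) :=
  good_append (good_append (good_rep i good_c) (good_rep e good_e)) (good_rep k good_w)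

end Cfsg.Agent.Co1Out
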