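import Cfsg.Agent.Lib.Co1Out.Elems

/-! The centralisers of the elements of orders 23 and 11. -/

set_option autoImplicit false
set_option maxRecDepth 10000

namespace Cfsg.Agent.Co1Out

open Cfsg Cfsg.Agent.Golay Cfsg.Agent.Leech Cfsg.Agent.LeechMod Cfsg.Agent.SporPerm
open Cfsg.Agent.PermCert (Elt get allBelow validElt)
open Finset
open scoped Pointwise

theorem negCo0_commute (g : Co0) : negCo0 * g = g * negCo0 :=
  (Subgroup.mem_center_iff.1 (mem_center_iff.2 (Or.inr rfl)) g).symm

theorem negCo0_mul_self : negCo0 * negCo0 = 1 :=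
  co0_ext fun i => by rw [mul_smul, negCo0_smul, negCo0_smul, neg_neg, one_smul]

/-- The extra point and the coordinates of an element fixing an axis. -/
theorem of_fix_axis {g : Co0} {p : GolayPt} (h : g • axis none = axis p) :
    ∃ a : M24 × golayCode, mono a = g ∧ (a.1 : Equiv.Perm GolayPt) none = p ∧
      (a.2 : GolayPt → ZMod 2) p = 0 := by
  obtain ⟨a, rfl⟩ := mono_of_axis h
  rw [mono_axis] at h
  obtain ⟨hn, hs⟩ := sgn_axis_inj (sgn_cases _ _) (h.trans (one_smul ℤ _).symm)
  refine ⟨a, rfl, hn, ?_⟩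
  rw [hn] at hs
  unfold sgn at hs
  by_contra r
  rw [if_neg r] at hs
  norm_num at hs

theorem σx_none : (σx : Equiv.Perm GolayPt) none = none := by
  have h := x_facts.1
  simp only [Bool.and_eq_true, Nat.beq_eq] at h
  have hv : validElt 5 24 xElt = true := by
    have := perm_mats.1; simp only [permMatOK, Bool.and_eq_true] at this; exact this.1.1
  refine idx_injective ?_
  show idx (permOf xElt none) = idx (none : GolayPt)
  rw [idx_permOf hv, show idx (none : GolayPt) = 23 from rfl, h.1]

theorem σx_reach {q : GolayPt} (hq : q ≠ none) :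
    ∃ j : ℕ, ((σx : Equiv.Perm GolayPt) ^ j) (some 0) = q := by
  have h := x_facts.1
  simp only [Bool.and_eq_true, Nat.beq_eq] at h
  have hv : validElt 5 24 xElt = true := by
    have := perm_mats.1; simp only [permMatOK, Bool.and_eq_true] at this; exact this.1.1
  have hlt : idx q < 23 := by revert hq; revert q; decide
  obtain ⟨j, -, hj⟩ := List.any_eq_true.1 (PermCert.allBelow_spec _ _ h.2 _ hlt)
  refine ⟨j, idx_injective ?_⟩
  show idx ((permOf xElt ^ j) (some 0)) = idx q
  rw [SB.idx_pow_apply hv, show idx (some 0 : GolayPt) = 0 from rfl]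
  exact Nat.eq_of_beq_eq_true hj

theorem σx_const {α : Type*} (y : GolayPt → α) (h : ∀ q, y ((σx : Equiv.Perm GolayPt) q) = y q)
    {q : GolayPt} (hq : q ≠ none) : y q = y (some 0) := by
  obtain ⟨j, rfl⟩ := σx_reach hq
  clear hq
  induction j with
  | zero => rfl
  | succ j ih => rw [pow_succ', Equiv.Perm.mul_apply, h, ih]

/-- **The centraliser of the element of order 23.** -/
theorem cent_x {g : Co0} (hg : g * gx = gx * g) :
    ∃ k : ℕ, g = gx ^ k ∨ g = negCo0 * gx ^ k := by
  have hy := axis_image_inv σx_none hg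
  set y : GolayPt → ℤ := ((g • axis none : leechLattice) : GolayPt → ℤ) with hydef
  have hconst : ∀ i : ZMod 23, y (some i) = y (some 0) := fun i => σx_const y hy (by simp)
  have hs := sum_sq_axis g
  rw [← hydef, Fintype.sum_option, sum_congr rfl (fun i _ => by rw [hconst i]), sum_const,
    card_univ, ZMod.card, nsmul_eq_mul] at hs
  push_cast at hs
  have key : ∀ a b : ℤ, a ^ 2 + 23 * b ^ 2 = 64 → (a = 8 ∨ a = -8) ∧ b = 0 := fun a b h => by
    obtain ⟨ha, ha'⟩ := abs_le_of_sq (N := 9) (show a ^ 2 < 9 ^ 2 by nlinarith) (by norm_num)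
    obtain ⟨hb, hb'⟩ := abs_le_of_sq (N := 2) (show b ^ 2 < 2 ^ 2 by nlinarith) (by norm_num)
    have hb2 : b = 0 := by
      interval_cases b
      · exfalso; interval_cases a <;> norm_num at h
      · rfl
      · exfalso; interval_cases a <;> norm_num at h
    subst hb2
    rcases mul_eq_zero.1 (show (a - 8) * (a + 8) = 0 by linarith) with r | r
    · exact ⟨Or.inl (by linarith), rfl⟩
    · exact ⟨Or.inr (by linarith), rfl⟩
  obtain ⟨ha, hb⟩ := key _ _ hs
  have main : ∀ g' : Co0, g' * gx = gx * g' → g' • axis none = axis none →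
      ∃ k : ℕ, g' = gx ^ k := by
    intro g' hg' hax
    obtain ⟨a, rfl, hn, hc0⟩ := of_fix_axis hax
    obtain ⟨hcomm, hc⟩ := mono_commute hg'
    have hw : (a.2 : GolayPt → ZMod 2) = 0 := by
      have hh : ∀ q, (a.2 : GolayPt → ZMod 2) q =
          if q = none then 0 else (a.2 : GolayPt → ZMod 2) (some 0) := fun q => by
        split_ifs with hq
        · rw [hq, hc0]
        · exact σx_const _ hc hq
      rcases zmod2_cases ((a.2 : GolayPt → ZMod 2) (some 0)) with r | r
      · funext q; rw [hh q, r]; simp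
      · exfalso
        have e : support₂ (a.2 : GolayPt → ZMod 2) = univ.erase none := by
          ext q; simp [support₂, hh q, r]
        have := card_support_mod4 a.2.2
        rw [e] at this
        revert this; decide
    have hcomm' : (a.1 : Equiv.Perm GolayPt) * σx = (σx : Equiv.Perm GolayPt) * a.1 :=
      congrArg Subtype.val hcomm
    obtain ⟨k, hk⟩ := σx_reach (q := (a.1 : Equiv.Perm GolayPt) (some 0))
      (fun e => by simpa using (a.1 : Equiv.Perm GolayPt).injective (e.trans hn.symm))
    refine ⟨k, ?_⟩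
    rw [gx, ← map_pow]
    show mono a = mono (σx ^ k, 0)
    congr 1
    refine Prod.ext (Subtype.ext (Equiv.ext fun q => ?_)) (Subtype.ext hw)
    rw [SubmonoidClass.coe_pow]
    rcases eq_or_ne q none with rfl | hq
    · rw [hn]
      exact (Equiv.Perm.pow_apply_eq_self_of_apply_eq_self σx_none k).symm
    · obtain ⟨j, rfl⟩ := σx_reach hq
      have hj : (a.1 : Equiv.Perm GolayPt) * (σx : Equiv.Perm GolayPt) ^ j = (σx : Equiv.Perm GolayPt) ^ j * a.1 :=
        (Commute.pow_right hcomm' j).eq
      rw [← Equiv.Perm.mul_apply, hj, Equiv.Perm.mul_apply, ← hk, ← Equiv.Perm.mul_apply,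
        ← Equiv.Perm.mul_apply, ← pow_add, ← pow_add, add_comm]
  rcases ha with ha | ha
  · have hax : g • axis none = axis none := Subtype.ext (funext fun q => by
      rw [← hydef, coe_axis]
      rcases q with _ | i
      · simp [ha]
      · simp [hconst i, hb])
    exact (main g hg hax).imp fun k => Or.inl
  · have hax : (negCo0 * g) • axis none = axis none := Subtype.ext (funext fun q => by
      rw [mul_smul, negCo0_smul, AddSubgroup.coe_neg, Pi.neg_apply, ← hydef, coe_axis]
      rcases q with _ | i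
      · simp [ha]
      · simp [hconst i, hb])
    obtain ⟨k, hk⟩ := main (negCo0 * g) (by rw [mul_assoc, hg, ← mul_assoc, negCo0_commute gx, mul_assoc]) hax
    exact ⟨k, Or.inr (by rw [← hk, ← mul_assoc, negCo0_mul_self, one_mul])⟩

/-! ### The element of order eleven -/

/-- Coordinates constant on the orbits of the element of order eleven. -/
def coordW (a b c d : ℤ) : List ℤ :=
  (List.range 24).map fun k => if Nat.beq k 23 then a else if Nat.beq k 0 then b
    else if Nat.beq (o11.orb k) 0 then c else d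

/-- The powers of `c`. -/
def cPow : ℕ → List Gen
  | 0 => []
  | 1 => [cG]
  | _ => [c2G]

theorem good_cPow (i : ℕ) : Good (cPow i) := by
  rcases i with _ | _ | i
  exacts [good_nil, good_c, good_c2]

theorem prodEl_cPow {i : ℕ} (h : i < 3) : prodEl (cPow i) = gc ^ i := by
  interval_cases i
  · simp [cPow, prodEl_nil]
  · simp [cPow, prodEl_singleton, cG, gc]
  · simp only [cPow, prodEl_singleton, c2G, el_c2]
    rw [inv_eq_iff_mul_eq_one, ← pow_succ', gc_pow]

/-- The images of the two fixed axes under the powers of `c`, with signs. -/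
theorem image_check : allBelow (fun a => allBelow (fun b => allBelow (fun c => allBelow (fun d =>
    let A : ℤ := (a : ℤ) - 8
    let B : ℤ := (b : ℤ) - 8
    let C : ℤ := (c : ℤ) - 2
    let D : ℤ := (d : ℤ) - 2
    !(decide (A ^ 2 + B ^ 2 + 11 * C ^ 2 + 11 * D ^ 2 = 64) && LeechMod.inLB (toVec (coordW A B C D))) ||
      (List.range 3).any fun i => [0, 23].any fun k =>
        eqV (coordW A B C D) (run (cPow i) (axisL k)) ||
          eqV (coordW A B C D) ((run (cPow i) (axisL k)).map fun x => (-1) * x))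
    5) 5) 17) 17 = true := by decide +kernel

/-- The image of a mask under a map of indices. -/
def imgF (f : ℕ → ℕ) (m : ℕ) : ℕ :=
  mkMask (fun j => (List.range 24).any fun i => m.testBit i && Nat.beq (f i) j) 24

/-- A permutation centralising the element of order eleven and exchanging its fixed points. -/
def swapTbl (p q i : ℕ) : ℕ :=
  if Nat.beq i 23 then 0 else if Nat.beq i 0 then 23
  else SB.powPt o11.x.1 (o11.ex i) (if Nat.beq (o11.orb i) 0 then p else q)

theorem swap_check : allBelow (fun p => allBelow (fun q =>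
    gBasis.any fun v => !inCode (imgF (swapTbl p q) v.2)) 24) 24 = true := by decide +kernel

theorem o11_rep_lt : o11.reps.length = 2 := by decide +kernel

theorem e11_fix (q : GolayPt) : (e11 : Equiv.Perm GolayPt) q = permOf o11.x q := rfl

theorem no_swap {σ : M24} (h : σ * e11 = e11 * σ) (hn : (σ : Equiv.Perm GolayPt) none = some 0) : False := by
  have hc : ∀ r, (σ : Equiv.Perm GolayPt) (permOf o11.x r) = permOf o11.x ((σ : Equiv.Perm GolayPt) r) := fun r => by
    have := congrArg (fun t : M24 => (t : Equiv.Perm GolayPt) r) h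
    simpa [Equiv.Perm.mul_apply, e11] using this
  have hpow : ∀ (j : ℕ) r, (σ : Equiv.Perm GolayPt) ((permOf o11.x ^ j) r) =
      (permOf o11.x ^ j) ((σ : Equiv.Perm GolayPt) r) := fun j => by
    induction j with
    | zero => intro r; rfl
    | succ j ih => intro r; rw [pow_succ', Equiv.Perm.mul_apply, hc, ih, Equiv.Perm.mul_apply]
  have h0 : (σ : Equiv.Perm GolayPt) (some 0) = none := by
    have e := hc (some 0)
    rw [show permOf o11.x (some 0) = some 0 from e11_zero] at e
    rcases (fix11_pair _).1 ((SB.Orb.fix_iff o11_checks.1 _).2 e.symm) with r | r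
    · exact r
    · exact absurd ((σ : Equiv.Perm GolayPt).injective (r.trans hn.symm)) (by simp)
  have hsc := PermCert.allBelow_spec _ _ (PermCert.allBelow_spec _ _ swap_check
    (idx ((σ : Equiv.Perm GolayPt) (o11.repPt 0))) (idx_lt _))
    (idx ((σ : Equiv.Perm GolayPt) (o11.repPt 1))) (idx_lt _)
  obtain ⟨v, hv, hbad⟩ := List.any_eq_true.1 hsc
  have htab : ∀ r, swapTbl (idx ((σ : Equiv.Perm GolayPt) (o11.repPt 0)))
      (idx ((σ : Equiv.Perm GolayPt) (o11.repPt 1))) (idx r) = idx ((σ : Equiv.Perm GolayPt) r) := by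
    intro r
    unfold swapTbl
    rcases eq_or_ne r none with rfl | hr1
    · rw [hn]; rfl
    rcases eq_or_ne r (some 0) with rfl | hr2
    · rw [h0]; rfl
    have b1 : Nat.beq (idx r) 23 = false := by
      revert hr1; revert r; decide
    have b2 : Nat.beq (idx r) 0 = false := by
      revert hr2; revert r; decide
    have hfix : o11.fix.testBit (idx r) = false := by
      rw [Bool.eq_false_iff]; exact fun e => ((fix11_pair r).1 e).elim hr1 hr2
    obtain ⟨hlt, he⟩ := SB.Orb.eq_pow_rep o11_checks.1 r hfix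
    rw [o11_rep_lt] at hlt
    conv_rhs => rw [he, hpow, SB.idx_pow_apply (SB.Orb.ok_valid o11_checks.1)]
    simp only [b1, b2, Bool.false_eq_true, if_false]
    rcases (show o11.orb (idx r) = 0 ∨ o11.orb (idx r) = 1 by omega) with e | e <;> simp [e]
  obtain ⟨m, hm, hv2⟩ : ∃ m, m ∈ codeList ∧ m = v.2 := ⟨v.2, memB_spec (List.all_eq_true.1
    (show gBasis.all (fun v => memB v.2 codeList) = true by decide +kernel) v hv), rfl⟩
  have himg : ((σ : Equiv.Perm GolayPt) • maskSet v.2) = maskSet (imgF
      (swapTbl (idx ((σ : Equiv.Perm GolayPt) (o11.repPt 0))) (idx ((σ : Equiv.Perm GolayPt) (o11.repPt 1)))) v.2) := by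
    ext q
    obtain ⟨r, rfl⟩ := (σ : Equiv.Perm GolayPt).surjective q
    rw [show (σ : Equiv.Perm GolayPt) r ∈ (σ : Equiv.Perm GolayPt) • maskSet v.2 ↔ r ∈ maskSet v.2 from
      Finset.smul_mem_smul_finset_iff _]
    simp only [mem_maskSet, imgF, testBit_mkMask, idx_lt, decide_true, Bool.true_and, List.any_eq_true,
      List.mem_range, Bool.and_eq_true, Nat.beq_eq]
    refine ⟨fun hb => ⟨idx r, idx_lt r, hb, htab r⟩, ?_⟩
    rintro ⟨i, hi, hb, he⟩
    obtain ⟨r', rfl⟩ : ∃ r', idx r' = i := ⟨pt ⟨i, hi⟩, idx_pt _⟩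
    rw [htab] at he
    rwa [(σ : Equiv.Perm GolayPt).injective (idx_injective he)] at hb
  have hmem := mem_M24_iff.1 σ.2 _ (mem_supports.2 ⟨v.2, hv2 ▸ hm, rfl⟩)
  rw [himg] at hmem
  obtain ⟨n, hn', hne⟩ := mem_supports.1 hmem
  have hlt : imgF (swapTbl (idx ((σ : Equiv.Perm GolayPt) (o11.repPt 0)))
      (idx ((σ : Equiv.Perm GolayPt) (o11.repPt 1)))) v.2 < 2 ^ 24 := mkMask_lt _ _
  rw [← maskSet_inj (lt_of_mem_codeList hn') hlt hne] at hbad
  rw [inCode_iff.2 hn'] at hbad
  simp at hbad

/-- **The centraliser of the element of order eleven.** -/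
theorem cent_w {g : Co0} (hg : g * gw = gw * g) :
    ∃ i < 3, ∃ e < 2, ∃ k < 11, g = gc ^ i * ge ^ e * gw ^ k ∨ g = negCo0 * (gc ^ i * ge ^ e * gw ^ k) := by
  have hy := axis_image_inv e11_none hg
  set y : GolayPt → ℤ := ((g • axis none : leechLattice) : GolayPt → ℤ) with hydef
  have hs := sum_sq_axis g
  rw [sum11 (· ^ 2) _ hy] at hs
  obtain ⟨a1, a2, b1, b2, c1, c2, d1, d2⟩ := coord_bound11 hs
  have hylist : toVec (coordW (y none) (y (some 0)) (y (o11.repPt 0)) (y (o11.repPt 1))) = y := by
    funext q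
    rw [toVec, coordW, getD_map_range _ (idx_lt q)]
    rcases eq_or_ne q none with rfl | hq1
    · rfl
    rcases eq_or_ne q (some 0) with rfl | hq2
    · rfl
    have e1 : Nat.beq (idx q) 23 = false := by
      revert hq1; revert q; decide
    have e2 : Nat.beq (idx q) 0 = false := by
      revert hq2; revert q; decide
    have hfix : o11.fix.testBit (idx q) = false := by
      rw [Bool.eq_false_iff]; exact fun e => ((fix11_pair q).1 e).elim hq1 hq2
    obtain ⟨hlt, -⟩ := SB.Orb.eq_pow_rep o11_checks.1 q hfix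
    rw [o11_rep_lt] at hlt
    simp only [e1, e2, Bool.false_eq_true, if_false]
    rw [orbit_const o11_checks.1 y hy hfix]
    rcases (show o11.orb (idx q) = 0 ∨ o11.orb (idx q) = 1 by omega) with e | e <;> simp [e]
  have hin : LeechMod.inLB y = true := inLB_of_mem (g • axis none).2
  have hchk := image_check
  have h1 := PermCert.allBelow_spec _ _ hchk (y none + 8).toNat (by omega)
  have h2 := PermCert.allBelow_spec _ _ h1 (y (some 0) + 8).toNat (by omega)
  have h3 := PermCert.allBelow_spec _ _ h2 (y (o11.repPt 0) + 2).toNat (by omega)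
  have h4 := PermCert.allBelow_spec _ _ h3 (y (o11.repPt 1) + 2).toNat (by omega)
  simp only [show (((y none + 8).toNat : ℕ) : ℤ) - 8 = y none by omega,
    show (((y (some 0) + 8).toNat : ℕ) : ℤ) - 8 = y (some 0) by omega,
    show (((y (o11.repPt 0) + 2).toNat : ℕ) : ℤ) - 2 = y (o11.repPt 0) by omega,
    show (((y (o11.repPt 1) + 2).toNat : ℕ) : ℤ) - 2 = y (o11.repPt 1) by omega,
    hylist, hin, Bool.and_true, Bool.or_eq_true,
    Bool.not_eq_true', decide_eq_false_iff_not, List.any_eq_true, eqV_iff] at h4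
  rcases h4 with h4 | ⟨i, hi, k, hk, hv⟩
  · exact absurd (by linarith) h4
  obtain ⟨p, hp, hkp⟩ : ∃ p : GolayPt, (p = none ∨ p = some 0) ∧ idx p = k := by
    simp only [List.mem_cons, List.not_mem_nil, or_false] at hk
    rcases hk with rfl | rfl
    exacts [⟨some 0, Or.inr rfl, rfl⟩, ⟨none, Or.inl rfl, rfl⟩]
  subst hkp
  have hrun := run_spec (good_cPow i) (length_axisL _) (toVec_axisL p)
  rw [prodEl_cPow (List.mem_range.1 hi)] at hrun
  change toVec _ = ((gc ^ i • axis p : leechLattice) : GolayPt → ℤ) at hrun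
  -- the sign
  obtain ⟨s, hs1, hgs⟩ : ∃ s : Co0, (s = 1 ∨ s = negCo0) ∧ (s * g) • axis none = gc ^ i • axis p := by
    rcases hv with hv | hv
    · refine ⟨1, Or.inl rfl, Subtype.ext ?_⟩
      rw [one_mul, ← hydef, ← hylist, hv, hrun]
    · refine ⟨negCo0, Or.inr rfl, Subtype.ext ?_⟩
      rw [mul_smul, negCo0_smul, AddSubgroup.coe_neg, ← hydef, ← hylist, hv, toVec_map_mul]
      funext q
      simp [hrun]
  set h := (gc ^ i)⁻¹ * (s * g) with hhdef
  have hsc : s * g * gw = gw * (s * g) := by
    rcases hs1 with rfl | rfl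
    · simp [hg]
    · rw [mul_assoc, hg, ← mul_assoc, negCo0_commute gw, mul_assoc]
  have hhw : h * gw = gw * h := by
    rw [hhdef, mul_assoc, hsc, ← mul_assoc, ((Commute.pow_left (show Commute gc gw from gc_gw) i).inv_left).eq,
      mul_assoc]
  have hax : h • axis none = axis p := by rw [hhdef, mul_smul, hgs, inv_smul_smul]
  obtain ⟨a, ha, hn, hc0⟩ := of_fix_axis hax
  obtain ⟨hcomm, hc⟩ := mono_commute (σ := e11) (by rw [ha]; exact hhw)
  rcases hp with rfl | rfl
  swap
  · exact (no_swap hcomm hn).elim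
  have h0 : (a.1 : Equiv.Perm GolayPt) (some 0) = some 0 := by
    have := congrArg (fun t : M24 => (t : Equiv.Perm GolayPt) (some 0)) hcomm
    simp only [MulMemClass.coe_mul, Equiv.Perm.mul_apply, e11_zero] at this
    rcases (fix11_pair _).1 ((SB.Orb.fix_iff o11_checks.1 _).2 this.symm) with r | r
    · exact absurd ((a.1 : Equiv.Perm GolayPt).injective (r.trans hn.symm)) (by simp)
    · exact r
  obtain ⟨m, hm⟩ := cent_perm o11_checks.1 (show (11 : ℕ).Prime by norm_num) e11.2 o11_checks.2.1 a.1.2
    (congrArg Subtype.val hcomm) (fun q hq => by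
      rcases (fix11_pair q).1 hq with rfl | rfl <;> assumption)
  have hσ : permHom a.1 = gw ^ m := by
    rw [gw, ← map_zpow]
    exact congrArg permHom (Subtype.ext (by rw [SubgroupClass.coe_zpow]; exact hm.symm))
  have hword : ∃ e < 2, Leech.diag a.2 = ge ^ e := by
    have hd : ∀ q, (dWord : GolayPt → ZMod 2) ((e11 : Equiv.Perm GolayPt) q) = (dWord : GolayPt → ZMod 2) q := by
      intro q; revert q; decide +kernel
    rcases zmod2_cases ((a.2 : GolayPt → ZMod 2) (some 0)) with r | r
    · refine ⟨0, by norm_num, ?_⟩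
      rw [show a.2 = 0 from Subtype.ext (code11 a.2.2 hc0 r hc), diag_zero, pow_zero]
    · refine ⟨1, by norm_num, ?_⟩
      have hd0 : (dWord : GolayPt → ZMod 2) none = 0 ∧ (dWord : GolayPt → ZMod 2) (some 0) = 1 := by
        decide +kernel
      have := code11 (a.2 + dWord).2 (by simp [hc0, hd0.1]) (by simp [r, hd0.2]; decide)
        (fun q => by
          show (a.2 : GolayPt → ZMod 2) ((e11 : Equiv.Perm GolayPt) q) + (dWord : GolayPt → ZMod 2) ((e11 : Equiv.Perm GolayPt) q) = _
          rw [hc q]; exact congrArg _ (hd q))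
      rw [pow_one, show a.2 = dWord from Subtype.ext (funext fun q => by
        have hq := congrFun this q
        simp only [AddMemClass.coe_add, Pi.add_apply, Pi.zero_apply] at hq
        exact CharTwo.add_eq_zero.1 hq)]
      rfl
  obtain ⟨e, he, hde⟩ := hword
  have hh : h = ge ^ e * gw ^ m := by
    rw [← ha, ← hde, ← hσ, show permHom a.1 = mono (a.1, 0) from rfl, Leech.diag, mono_mul]
    congr 1
    refine Prod.ext (by simp [pairMul]) (Subtype.ext (funext fun q => ?_))
    simp [pairMul]
  refine ⟨i, List.mem_range.1 hi, e, he, (m % 11).toNat, by omega, ?_⟩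
  have hm11 : gw ^ (m % 11).toNat = gw ^ m := by
    have h11 : gw ^ (11 : ℤ) = 1 := by exact_mod_cast gw_pow
    conv_rhs => rw [← Int.mul_ediv_add_emod m 11, zpow_add, zpow_mul, h11, one_zpow, one_mul]
    rw [← zpow_natCast, Int.toNat_of_nonneg (Int.emod_nonneg m (by norm_num))]
  have hg' : s * g = gc ^ i * ge ^ e * gw ^ (m % 11).toNat := by
    rw [hm11, mul_assoc, ← hh, hhdef, mul_inv_cancel_left]
  rw [← hg']
  rcases hs1 with rfl | rfl
  · exact Or.inl (one_mul g).symm
  · exact Or.inr (by rw [← mul_assoc, negCo0_mul_self, one_mul])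

end Cfsg.Agent.Co1Out
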