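import Cfsg.Agent.Lib.Co1Out.Basic

/-! The matrices are lattice automorphisms. -/

set_option autoImplicit false
set_option maxRecDepth 20000
set_option Elab.async false

namespace Cfsg.Agent.Co1Out

open Cfsg.Agent.SporPerm Cfsg.Agent.LeechOrbit

theorem x_ok : matOK xMat = true ∧ smallOK xMat = true ∧ colsOK xMat xCols = true := by
  decide +kernel

theorem w_ok : matOK wMat = true ∧ smallOK wMat = true ∧ colsOK wMat wCols = true := by
  decide +kernel

theorem m_ok : matOK mMat = true ∧ smallOK mMat = true ∧ colsOK mMat mCols = true := by
  decide +kernel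

theorem eps_ok : matOK epsMat = true ∧ smallOK epsMat = true ∧ colsOK epsMat epsCols = true := by
  decide +kernel

theorem c_ok : matOK cMat = true ∧ smallOK cMat = true ∧ colsOK cMat cCols = true := by
  decide +kernel

theorem c2_ok : matOK c2Mat = true ∧ smallOK c2Mat = true ∧ colsOK c2Mat c2Cols = true := by
  decide +kernel

end Cfsg.Agent.Co1Out
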