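import Cfsg.Agent.Lib.Co1Out.Basic
import Cfsg.Agent.Lib.Co1Out.Mats

/-! Kernel checks for the outer automorphisms of Co₁. -/

set_option autoImplicit false
set_option maxRecDepth 20000
set_option Elab.async false

namespace Cfsg.Agent.Co1Out

open Cfsg Cfsg.Agent.Golay Cfsg.Agent.Leech Cfsg.Agent.LeechMod Cfsg.Agent.SporPerm
open Cfsg.Agent.PermCert (Elt get allBelow validElt)

/-- The generators with their packed columns. -/
def xG : Gen := (xMat, xCols)
@[inherit_doc xG] def wG : Gen := (wMat, wCols)
@[inherit_doc xG] def mG : Gen := (mMat, mCols)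
@[inherit_doc xG] def eG : Gen := (epsMat, epsCols)
@[inherit_doc xG] def cG : Gen := (cMat, cCols)
@[inherit_doc xG] def c2G : Gen := (c2Mat, c2Cols)

/-- A matrix permutes the axes as a coded permutation does. -/
def permMatOK (M : List (List ℤ)) (e : Elt) : Bool :=
  validElt 5 24 e && isAutB e && allBelow (fun k => eqV (app M (axisL k)) (axisL (get 5 e.1 k))) 24

theorem perm_mats : permMatOK xMat xElt = true ∧ permMatOK wMat o11.x = true ∧ permMatOK mMat mElt = true := by
  decide +kernel

theorem eps_mat : (allBelow (fun k => eqV (app epsMat (axisL k))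
    ((axisL k).map fun x => (if dMask.testBit k then -1 else 1) * x)) 24 && inCode dMask) = true := by
  decide +kernel

/-- Repeat a list. -/
def rep {α : Type} (n : ℕ) (l : List α) : List α := (List.replicate n l).flatten

theorem x_facts : (Nat.beq (get 5 xElt.1 23) 23 &&
    allBelow (fun i => (List.range 23).any fun j => Nat.beq (SB.powPt xElt.1 j 0) i) 23) = true ∧
    sameOK (rep 23 [xG]) [] 1 = true ∧ diffOK [xG] [] = true := by
  decide +kernel

theorem w_facts : sameOK (rep 11 [wG]) [] 1 = true ∧ diffOK [wG] [] = true ∧
    sameOK [wG, xG] (rep 18 [xG] ++ [wG]) 1 = true := by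
  decide +kernel

theorem c_facts : sameOK [cG, cG, cG] [] 1 = true ∧ sameOK [cG, wG] [wG, cG] 1 = true ∧
    sameOK [cG, c2G] [] 1 = true ∧ diffOK [cG] [] = true := by
  decide +kernel

theorem eps_facts : sameOK [eG, eG] [] 1 = true ∧ sameOK [eG, wG] [wG, eG] 1 = true ∧
    sameOK [eG, cG] [c2G, eG] 1 = true ∧ diffOK [eG] [] = true := by
  decide +kernel

/-- The power of an element of order eleven conjugated by `mMat`. -/
theorem m_facts : ((List.range 11).any fun j => sameOK [mG, wG] (rep j [wG] ++ [mG]) 1) = true := by
  decide +kernel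

/-- Generators of the group generated by `c`, `ε` and `w`, in the order `cⁱ εᵉ wᵏ`. -/
def centWord (i e k : ℕ) : List Gen := rep i [cG] ++ rep e [eG] ++ rep k [wG]

/-- The central quotient of the listed centraliser is the identity, or `ε`, or does not commute with a
conjugate of `ε`. -/
theorem cent_cases : (List.range 3).all (fun i => (List.range 2).all fun e => (List.range 11).all fun k =>
    (Nat.beq i 0 && Nat.beq k 0) ||
      [[eG], [xG, eG] ++ rep 22 [xG]].any fun y =>
        diffOK (centWord i e k ++ y) (y ++ centWord i e k)) = true := by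
  decide +kernel

/-- The elements of the centraliser squaring to a central element. -/
theorem square_cases : (List.range 3).all (fun i => (List.range 2).all fun e => (List.range 11).all fun k =>
    (Nat.beq e 1 && Nat.beq k 0) || (Nat.beq i 0 && Nat.beq e 0 && Nat.beq k 0) ||
      diffOK (centWord i e k ++ centWord i e k) []) = true := by
  decide +kernel

/-- The elements of the centraliser cubing to a central element. -/
theorem cube_cases : (List.range 3).all (fun i => (List.range 2).all fun e => (List.range 11).all fun k =>
    (Nat.beq e 0 && Nat.beq k 0) ||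
      diffOK (centWord i e k ++ centWord i e k ++ centWord i e k) []) = true := by
  decide +kernel

/-- The images of the letters `x`, `ε`, `c`. -/
def letter (k e j : ℕ) : ℕ → List Gen
  | 0 => rep k [xG]
  | 1 => [eG] ++ rep e [cG]
  | _ => rep j [cG]

/-- A power of the word is central at the source and not at the image. -/
def witnessOK (v : ℕ × ℕ × ℕ × List ℕ × ℕ) : Bool :=
  let src := rep v.2.2.2.2 (v.2.2.2.1.flatMap (letter 1 0 1))
  let tgt := rep v.2.2.2.2 (v.2.2.2.1.flatMap (letter v.1 v.2.1 v.2.2.1))
  (sameOK src [] 1 || sameOK src [] (-1)) && diffOK tgt []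

theorem witnesses_ok : witnesses.all witnessOK = true := by decide +kernel

theorem witnesses_cover : (List.range 3).all (fun e => [1, 5].all fun k => [1, 2].all fun j =>
    (Nat.beq k 1 && Nat.beq e 0 && Nat.beq j 1) ||
      witnesses.any fun v => Nat.beq v.1 k && Nat.beq v.2.1 e && Nat.beq v.2.2.1 j) = true := by
  decide +kernel

/-- The word distinguishing `mMat` from `mMat` times `ε`. -/
theorem m_witness : (sameOK (rep 7 [xG, mG]) [] 1 || sameOK (rep 7 [xG, mG]) [] (-1)) = true ∧
    diffOK (rep 7 [xG, mG, eG]) [] = true := by
  decide +kernel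

theorem d_conj : (Nat.beq (dConj.getD 0 0) dMask &&
    allBelow (fun j => Nat.beq (imgMask xElt (dConj.getD j 0)) (dConj.getD (j + 1) 0)) 22 &&
      Nat.beq dConj.length 23) = true := by
  decide +kernel

theorem d_span : (gBasis.map fun v => v.2).all (fun b => memB b (spanList (16777215 :: dConj.take 11))) = true := by
  decide +kernel

end Cfsg.Agent.Co1Out
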