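import Cfsg.Agent.Lib.Co1Out.Words
import Cfsg.Agent.Lib.Leech.Co1

/-! The named elements in the quotient by the centre. -/

set_option autoImplicit false
set_option maxRecDepth 10000

namespace Cfsg.Agent.Co1Out

open Cfsg Cfsg.Agent.Golay Cfsg.Agent.Leech Cfsg.Agent.LeechMod Cfsg.Agent.SporPerm
open Cfsg.Agent.PermCert (Elt get allBelow validElt)

/-- The projection. -/
noncomputable def pr : Co0 →* Spor.Co1 := QuotientGroup.mk' (Subgroup.center Co0)

theorem pr_surj : Function.Surjective pr := QuotientGroup.mk'_surjective _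

theorem pr_eq {a b : Co0} : pr a = pr b ↔ a = b ∨ a = negCo0 * b := by
  rw [pr, QuotientGroup.mk'_apply, QuotientGroup.mk'_apply, eq_comm, QuotientGroup.eq, mem_center_iff,
    inv_mul_eq_one, inv_mul_eq_iff_eq_mul, ← negCo0_commute, eq_comm]

theorem pr_neg : pr negCo0 = 1 := by rw [← map_one pr, pr_eq]; exact Or.inr (mul_one _).symm

theorem pr_ne {Ls Rs : List Gen} (hL : Good Ls) (hR : Good Rs) (h : diffOK Ls Rs = true) :
    pr (prodEl Ls) ≠ pr (prodEl Rs) := fun e => by
  obtain ⟨h1, h2⟩ := ne_of_diffOK hL hR h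
  exact (pr_eq.1 e).elim h1 h2

theorem pr_same {Ls : List Gen} (hL : Good Ls) (h : (sameOK Ls [] 1 || sameOK Ls [] (-1)) = true) :
    pr (prodEl Ls) = 1 := by
  rcases Bool.or_eq_true_iff.1 h with h | h
  · rw [eq_of_sameOK hL good_nil h, prodEl_nil, map_one]
  · rw [eq_neg_of_sameOK hL good_nil h, prodEl_nil, mul_one, pr_neg]

/-- The element of order 23. -/
noncomputable def qx : Spor.Co1 := pr gx
/-- The element of order 11. -/
noncomputable def qw : Spor.Co1 := pr gw
/-- The involution. -/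
noncomputable def qe : Spor.Co1 := pr ge
/-- The element of order three. -/
noncomputable def qc : Spor.Co1 := pr gc
/-- The normalising element. -/
noncomputable def qm : Spor.Co1 := pr gm

theorem qx_pow : qx ^ 23 = 1 := by rw [qx, ← map_pow, gx_pow, map_one]
theorem qw_pow : qw ^ 11 = 1 := by rw [qw, ← map_pow, gw_pow, map_one]
theorem qc_pow : qc ^ 3 = 1 := by rw [qc, ← map_pow, gc_pow, map_one]
theorem qe_sq : qe * qe = 1 := by rw [qe, ← map_mul, ge_sq, map_one]
theorem qw_qx : qw * qx = qx ^ 18 * qw := by simp only [qx, qw, ← map_mul, ← map_pow, gw_gx]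
theorem qc_qw : qc * qw = qw * qc := by simp only [qc, qw, ← map_mul, gc_gw]
theorem qe_qw : qe * qw = qw * qe := by simp only [qe, qw, ← map_mul, ge_gw]
theorem qe_qc : qe * qc = qc⁻¹ * qe := by simp only [qe, qc, ← map_inv, ← map_mul, ge_gc]

theorem qx_ne : qx ≠ 1 := by
  have := pr_ne good_x good_nil x_facts.2.2
  simpa only [prodEl_singleton, prodEl_nil, map_one, xG, el_x, qx] using this
theorem qw_ne : qw ≠ 1 := by
  have := pr_ne good_w good_nil w_facts.2.1
  simpa only [prodEl_singleton, prodEl_nil, map_one, wG, el_w, qw] using this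
theorem qe_ne : qe ≠ 1 := by
  have := pr_ne good_e good_nil eps_facts.2.2.2
  simpa only [prodEl_singleton, prodEl_nil, map_one, eG, el_e, qe] using this
theorem qc_ne : qc ≠ 1 := by
  have := pr_ne good_c good_nil c_facts.2.2.2
  simpa only [prodEl_singleton, prodEl_nil, map_one, cG, qc, gc] using this

theorem order_qx : orderOf qx = 23 :=
  have : Fact (Nat.Prime 23) := ⟨by norm_num⟩
  orderOf_eq_prime qx_pow qx_ne

theorem commute_lift {g a : Co0} {n : ℕ} (hn : a ^ n = 1) (hodd : negCo0 ^ n = negCo0)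
    (h : pr g * pr a = pr a * pr g) : g * a = a * g := by
  rw [← map_mul, ← map_mul, pr_eq] at h
  refine h.resolve_right fun e => ?_
  have e1 : g * a * g⁻¹ = negCo0 * a := by rw [e, mul_assoc, mul_assoc, mul_inv_cancel, mul_one]
  have e2 := congrArg (· ^ n) e1
  simp only [conj_pow, hn, mul_one, mul_inv_cancel, (show Commute negCo0 a from negCo0_commute a).mul_pow] at e2
  rw [hodd] at e2
  exact negCo0_ne_one e2.symm

theorem negCo0_odd (n : ℕ) : negCo0 ^ (2 * n + 1) = negCo0 := by
  rw [pow_succ, pow_mul, pow_two, negCo0_mul_self, one_pow, one_mul]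

theorem cent_qx {g : Spor.Co1} (h : g * qx = qx * g) : ∃ k : ℕ, g = qx ^ k := by
  obtain ⟨g', rfl⟩ := pr_surj g
  obtain ⟨k, hk⟩ := cent_x (commute_lift gx_pow (negCo0_odd 11) h)
  exact ⟨k, by rw [qx, ← map_pow]; exact pr_eq.2 hk⟩

/-- The element of the centraliser of `qw` with the given coordinates. -/
noncomputable def centEl (i e k : ℕ) : Spor.Co1 := qc ^ i * qe ^ e * qw ^ k

theorem centEl_eq (i e k : ℕ) : centEl i e k = pr (prodEl (centWord i e k)) := by
  rw [centWord_eq, centEl, map_mul, map_mul, map_pow, map_pow, map_pow]; rfl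

theorem cent_qw {g : Spor.Co1} (h : g * qw = qw * g) :
    ∃ i < 3, ∃ e < 2, ∃ k < 11, g = centEl i e k := by
  obtain ⟨g', rfl⟩ := pr_surj g
  obtain ⟨i, hi, e, he, k, hk, hg⟩ := cent_w (commute_lift gw_pow (negCo0_odd 5) h)
  exact ⟨i, hi, e, he, k, hk, by rw [centEl_eq, centWord_eq]; exact pr_eq.2 hg⟩

/-- A case of a check on the listed centraliser. -/
theorem cases_spec {f : ℕ → ℕ → ℕ → Bool}
    (h : (List.range 3).all (fun i => (List.range 2).all fun e => (List.range 11).all fun k => f i e k) = true)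
    {i e k : ℕ} (hi : i < 3) (he : e < 2) (hk : k < 11) : f i e k = true :=
  List.all_eq_true.1 (List.all_eq_true.1 (List.all_eq_true.1 h i (List.mem_range.2 hi)) e
    (List.mem_range.2 he)) k (List.mem_range.2 hk)

theorem square_elim {g : Spor.Co1} (hc : g * qw = qw * g) (h2 : g * g = 1) (h1 : g ≠ 1) :
    ∃ i < 3, g = qc ^ i * qe := by
  obtain ⟨i, hi, e, he, k, hk, rfl⟩ := cent_qw hc
  have := cases_spec square_cases hi he hk
  simp only [Bool.or_eq_true, Bool.and_eq_true, Nat.beq_eq] at this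
  rcases this with (⟨rfl, rfl⟩ | ⟨⟨rfl, rfl⟩, rfl⟩) | h
  · exact ⟨i, hi, by rw [centEl, pow_one, pow_zero, mul_one]⟩
  · exact absurd (by simp [centEl]) h1
  · refine absurd ?_ (pr_ne (good_append (good_centWord i e k) (good_centWord i e k)) good_nil h)
    rw [prodEl_append, map_mul, ← centEl_eq, h2, prodEl_nil, map_one]

theorem cube_elim {g : Spor.Co1} (hc : g * qw = qw * g) (h3 : g * g * g = 1) (h1 : g ≠ 1) :
    ∃ i, (i = 1 ∨ i = 2) ∧ g = qc ^ i := by
  obtain ⟨i, hi, e, he, k, hk, rfl⟩ := cent_qw hc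
  have := cases_spec cube_cases hi he hk
  simp only [Bool.or_eq_true, Bool.and_eq_true, Nat.beq_eq] at this
  rcases this with ⟨rfl, rfl⟩ | h
  · have hi0 : i ≠ 0 := fun e => h1 (by simp [centEl, e])
    exact ⟨i, by omega, by rw [centEl, pow_zero, pow_zero, mul_one, mul_one]⟩
  · refine absurd ?_ (pr_ne (good_append (good_append (good_centWord i e k) (good_centWord i e k))
      (good_centWord i e k)) good_nil h)
    rw [prodEl_append, prodEl_append, map_mul, map_mul, ← centEl_eq, h3, prodEl_nil, map_one]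

end Cfsg.Agent.Co1Out
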