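import Cfsg.Agent.Lib.Co1Out.Cent
import Cfsg.Agent.Lib.Golay.M24

/-! Generation of the monomial group by the named elements. -/

set_option autoImplicit false
set_option maxRecDepth 10000

namespace Cfsg.Agent.Co1Out

open Cfsg Cfsg.Agent.Golay Cfsg.Agent.Golay.Cert Cfsg.Agent.Leech Cfsg.Agent.LeechMod Cfsg.Agent.SporPerm
open Cfsg.Agent.PermCert (Elt get allBelow validElt)

/-- The named permutations and their inverses. -/
def letterPerm : ℕ → Equiv.Perm GolayPt
  | 0 => permOf xElt
  | 1 => permOf o11.x
  | 2 => permOf mElt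
  | 3 => (permOf xElt)⁻¹
  | 4 => (permOf o11.x)⁻¹
  | _ => (permOf mElt)⁻¹

theorem m24_words : ∀ i : Fin 3, ∀ q : GolayPt,
    idx (((m24Words.getD (i : ℕ) []).map letterPerm).prod q) = PermCert.get 5 (m24Gens.getD (i : ℕ) (0, 0)).1 (idx q) := by
  decide +kernel

/-- A permutation group containing the named permutations contains all of the code's group. -/
theorem M24_le {S : Subgroup (Equiv.Perm GolayPt)} (hx : permOf xElt ∈ S) (hw : permOf o11.x ∈ S)
    (hm : permOf mElt ∈ S) : M24 ≤ S := by
  have hl : ∀ i, letterPerm i ∈ S := fun i => by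
    rcases i with _ | _ | _ | _ | _ | i
    exacts [hx, hw, hm, inv_mem hx, inv_mem hw, inv_mem hm]
  have hg : ∀ i : Fin 3, permOf (m24Gens.getD (i : ℕ) (0, 0)) ∈ S := fun i => by
    have e : ((m24Words.getD (i : ℕ) []).map letterPerm).prod = permOf (m24Gens.getD (i : ℕ) (0, 0)) := by
      refine eq_permOf ?_ (m24_words i)
      have hi : (i : ℕ) < m24Gens.length := lt_of_lt_of_eq i.2 rfl
      rw [List.getD_eq_getElem _ _ hi]
      exact List.all_eq_true.1 gens_valid _ (List.getElem_mem hi)
    rw [← e]
    exact list_prod_mem fun s hs => by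
      obtain ⟨j, -, rfl⟩ := List.mem_map.1 hs
      exact hl j
  rw [← closure_gens, Subgroup.closure_le]
  rintro s (rfl | rfl | hs)
  · rw [translation_eq]; exact hg 0
  · rw [projInv_eq]; exact hg 1
  · rw [Set.mem_singleton_iff.1 hs, cubeTwist_eq]; exact hg 2

theorem ofMask_imgMask {e : Elt} (h : validElt 5 24 e = true) (m : ℕ) (p : GolayPt) :
    ofMask (imgMask e m) p = ofMask m ((permOf e).symm p) := by
  simp [ofMask, imgMask, testBit_mkMask, idx_lt, ← idx_permOf_symm h]

/-- Conjugation of a sign change by a permutation. -/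
theorem perm_diag (σ : M24) (c : golayCode) :
    permHom σ * Leech.diag c * (permHom σ)⁻¹ =
      Leech.diag ⟨fun i => (c : GolayPt → ZMod 2) ((σ : Equiv.Perm GolayPt).symm i), code_perm σ.2 c.2⟩ := by
  rw [mul_inv_eq_iff_eq_mul]
  show mono (σ, 0) * mono (1, c) = mono (1, _) * mono (σ, 0)
  rw [mono_mul, mono_mul]
  congr 1
  refine Prod.ext (by simp [pairMul]) (Subtype.ext (funext fun i => ?_))
  simp [pairMul]

theorem gc_checks : allBelow (fun j => !eqV (run [cG] (axisL 23)) (axisL j) &&
    !eqV (run [cG] (axisL 23)) ((axisL j).map fun x => (-1) * x)) 24 = true := by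
  decide +kernel

theorem gc_not_mem : gc ∉ crossStab := by
  intro h
  obtain ⟨a, ha⟩ := fixesStd_iff.1 (mem_crossStab.1 h)
  have hr := run_spec good_c (length_axisL _) (toVec_axisL none)
  rw [prodEl_singleton] at hr
  change toVec _ = ((gc • axis none : leechLattice) : GolayPt → ℤ) at hr
  rw [← ha, mono_axis, show idx (none : GolayPt) = 23 from rfl] at hr
  set p := (a.1 : Equiv.Perm GolayPt) none
  have hk := PermCert.allBelow_spec _ _ gc_checks (idx p) (idx_lt p)
  simp only [Bool.and_eq_true, Bool.not_eq_true'] at hk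
  have hl : (run [cG] (axisL 23)).length = 24 := length_run good_c (length_axisL _)
  rcases sgn_cases (a.2 : GolayPt → ZMod 2) p with e | e
  · rw [e, one_smul, ← toVec_axisL] at hr
    rw [eqV_iff.2 (toVec_inj hl (length_axisL _) hr)] at hk
    simp at hk
  · have : toVec (run [cG] (axisL 23)) = toVec ((axisL (idx p)).map fun x => (-1) * x) := by
      rw [hr, e, toVec_map_mul, toVec_axisL]
      rfl
    rw [eqV_iff.2 (toVec_inj hl (by simp [length_axisL]) this)] at hk
    simp at hk

end Cfsg.Agent.Co1Out
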